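import Mathlib

/-!
# Noether normalization with integral-coefficient substitutions
-/

open MvPolynomial
open private T T_leadingcoeff_isUnit from Mathlib.RingTheory.NoetherNormalization

namespace GrothLib.NoetherInt

universe u

variable (k : Type u) [Field k]

local notation "mapZ" => (MvPolynomial.map (Int.castRingHom k))

theorem exists_substitution {n : ℕ} (f : MvPolynomial (Fin (n + 1)) k) (hf : f ≠ 0)
    (I : Ideal (MvPolynomial (Fin (n + 1)) k)) (hfI : f ∈ I) :
    ∃ z : Fin n → MvPolynomial (Fin (n + 1)) k, (∀ i, z i ∈ Set.range mapZ) ∧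
      ((Ideal.Quotient.mkₐ k I).comp (aeval z)).IsIntegral := by
  let e := finSuccEquiv k n
  set Tf := T f with hTf
  refine ⟨fun i => X i.succ - X 0 ^ ((2 + f.totalDegree) ^ (i.succ : Fin (n + 1)).1),
    fun i => ⟨X i.succ - X 0 ^ ((2 + f.totalDegree) ^ (i.succ : Fin (n + 1)).1), by simp⟩, ?_⟩
  set z : Fin n → MvPolynomial (Fin (n + 1)) k :=
    fun i => X i.succ - X 0 ^ ((2 + f.totalDegree) ^ (i.succ : Fin (n + 1)).1)
  have hTs : ∀ i, Tf.symm (X i) = if i = 0 then X 0 else
      X i + (-1 : k) • X 0 ^ ((2 + f.totalDegree) ^ i.1) := fun i => by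
    simp [hTf, T, NoetherNormalization.T1]
  set π := Ideal.Quotient.mkₐ k I with hπ
  let E : Polynomial (MvPolynomial (Fin n) k) →+* MvPolynomial (Fin (n + 1)) k ⧸ I :=
    π.toRingHom.comp ((Tf.symm.toRingEquiv.toRingHom).comp e.symm.toRingEquiv.toRingHom)
  have hEX : E Polynomial.X = π (X 0) := by
    show π (Tf.symm (e.symm Polynomial.X)) = _
    rw [show e.symm Polynomial.X = X 0 from e.injective (by simp [e, finSuccEquiv_X_zero]), hTs, if_pos rfl]
  have hEC : ∀ q, E (Polynomial.C q) = π (aeval z q) := by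
    intro q
    suffices h : (Tf.symm.toAlgHom.comp e.symm.toAlgHom).comp
        (IsScalarTower.toAlgHom k (MvPolynomial (Fin n) k) (Polynomial (MvPolynomial (Fin n) k))) =
        aeval z from congrArg π (DFunLike.congr_fun h q)
    refine MvPolynomial.algHom_ext fun i => ?_
    show Tf.symm (e.symm (Polynomial.C (X i))) = aeval z (X i)
    rw [aeval_X, show e.symm (Polynomial.C (X i)) = X i.succ from e.injective (by simp [e, finSuccEquiv_X_succ]),
      hTs, if_neg (Fin.succ_ne_zero i), neg_smul, one_smul, ← sub_eq_add_neg]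
  have hEp : E (e (Tf f)) = 0 := by
    show π (Tf.symm (e.symm (e (Tf f)))) = 0
    rw [AlgEquiv.symm_apply_apply, AlgEquiv.symm_apply_apply]
    exact Ideal.Quotient.eq_zero_iff_mem.2 hfI
  obtain u := T_leadingcoeff_isUnit f hf
  set φ := π.comp (aeval z) with hφ
  have hx : φ.toRingHom.IsIntegralElem (π (X 0)) := by
    refine ⟨u.unit⁻¹.val • e (Tf f), Polynomial.monic_of_isUnit_leadingCoeff_inv_smul u, ?_⟩
    rw [Polynomial.smul_eq_C_mul, Polynomial.eval₂_mul]
    have : ∀ p, Polynomial.eval₂ φ.toRingHom (π (X 0)) p = E p := by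
      intro p
      induction p using Polynomial.induction_on' with
      | add p q hp hq => rw [Polynomial.eval₂_add, hp, hq, map_add]
      | monomial m a =>
        rw [Polynomial.eval₂_monomial, ← Polynomial.C_mul_X_pow_eq_monomial, map_mul, map_pow, hEC, hEX]
        rfl
    rw [this, this, hEp, mul_zero]
  intro w
  obtain ⟨w, rfl⟩ := Ideal.Quotient.mkₐ_surjective k I w
  induction w using MvPolynomial.induction_on with
  | C a =>
    have : π (C a) = φ.toRingHom (C a) := by simp [φ]
    rw [this]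
    exact φ.toRingHom.isIntegralElem_map
  | add p q hp hq => rw [map_add]; exact hp.add _ hq
  | mul_X p i hp =>
    rw [map_mul]
    refine hp.mul _ ?_
    cases i using Fin.cases with
    | zero => exact hx
    | succ i =>
      have hzi : π (z i) = φ.toRingHom (X i) := by simp [φ]
      have : π (X i.succ) = φ.toRingHom (X i) + (π (X 0)) ^ ((2 + f.totalDegree) ^ (i.succ : Fin (n + 1)).1) := by
        rw [← hzi, ← map_pow, ← map_add, sub_add_cancel]
      rw [this]
      refine (φ.toRingHom.isIntegralElem_map).add _ ?_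
      generalize (2 + f.totalDegree) ^ (i.succ : Fin (n + 1)).1 = m
      induction m with
      | zero => rw [pow_zero]; exact φ.toRingHom.isIntegralElem_one
      | succ m ihm => rw [pow_succ]; exact ihm.mul _ hx

theorem exists_normalization (n : ℕ) (I : Ideal (MvPolynomial (Fin n) k)) (hI : I ≠ ⊤) :
    ∃ (r : ℕ) (y : Fin r → MvPolynomial (Fin n) k), (∀ i, y i ∈ Set.range mapZ) ∧
      Function.Injective ((Ideal.Quotient.mkₐ k I).comp (aeval y)) ∧
      ((Ideal.Quotient.mkₐ k I).comp (aeval y)).IsIntegral := by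
  have triv : ∀ (n : ℕ), ∀ I : Ideal (MvPolynomial (Fin n) k), I = ⊥ →
      ∃ (r : ℕ) (y : Fin r → MvPolynomial (Fin n) k), (∀ i, y i ∈ Set.range mapZ) ∧
      Function.Injective ((Ideal.Quotient.mkₐ k I).comp (aeval y)) ∧
      ((Ideal.Quotient.mkₐ k I).comp (aeval y)).IsIntegral := by
    intro n I h
    refine ⟨n, X, fun i => ⟨X i, by simp⟩, ?_, ?_⟩
    · rw [aeval_X_left, AlgHom.comp_id]
      exact ((Ideal.Quotient.mk_bijective_iff_eq_bot I).2 h).1
    · rw [aeval_X_left, AlgHom.comp_id]
      exact RingHom.isIntegral_of_surjective _ (Ideal.Quotient.mkₐ_surjective k I)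
  induction n with
  | zero =>
    refine triv 0 I (eq_bot_iff.2 fun p hp => ?_)
    rw [Submodule.mem_bot]
    by_contra hne
    obtain ⟨c, rfl⟩ := C_surjective (Fin 0) p
    refine hI (Ideal.eq_top_of_isUnit_mem _ hp (IsUnit.map C (isUnit_iff_ne_zero.2 fun h => hne (by rw [h, map_zero]))))
  | succ d ih =>
    by_cases h : I = ⊥
    · exact triv (d + 1) I h
    obtain ⟨f, hfI, hf⟩ := Submodule.exists_mem_ne_zero_of_ne_bot h
    obtain ⟨z, hzr, hzi⟩ := exists_substitution k f hf I hfI
    set φ := (Ideal.Quotient.mkₐ k I).comp (aeval z) with hφ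
    haveI := Ideal.Quotient.nontrivial_iff.2 hI
    obtain ⟨r, y, hy, hinj, hint⟩ := ih (RingHom.ker φ) (RingHom.ker_ne_top φ)
    choose z' hz' using hzr
    choose y' hy' using hy
    have hcomp : (Ideal.Quotient.mkₐ k I).comp (aeval (fun j => aeval z (y j))) =
        (Ideal.kerLiftAlg φ).comp ((Ideal.Quotient.mkₐ k (RingHom.ker φ)).comp (aeval y)) := by
      refine MvPolynomial.algHom_ext fun j => ?_
      simp only [AlgHom.comp_apply, aeval_X]
      exact (Ideal.kerLiftAlg_mk φ (y j)).symm
    refine ⟨r, fun j => aeval z (y j), fun j => ⟨aeval z' (y' j), ?_⟩, ?_, ?_⟩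
    · show _ = aeval z (y j)
      rw [← hy' j]
      have : (MvPolynomial.map (Int.castRingHom k) : MvPolynomial (Fin (d + 1)) ℤ →+* _).comp (aeval z').toRingHom =
          (aeval z).toRingHom.comp (MvPolynomial.map (Int.castRingHom k)) := by
        refine MvPolynomial.ringHom_ext (fun a => ?_) fun i => ?_
        · simp
        · simp [hz']
      exact DFunLike.congr_fun this (y' j)
    · rw [hcomp, AlgHom.coe_comp]
      exact (Ideal.kerLiftAlg_injective φ).comp hinj
    · rw [hcomp]
      refine RingHom.IsIntegral.trans _ _ hint ?_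
      have hφc : φ.toRingHom = (Ideal.kerLiftAlg φ).toRingHom.comp (Ideal.Quotient.mkₐ k (RingHom.ker φ)).toRingHom :=
        RingHom.ext fun a => (Ideal.kerLiftAlg_mk φ a).symm
      exact RingHom.IsIntegral.tower_top _ _ (hφc ▸ hzi)

end GrothLib.NoetherInt
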