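import Mathlib
import Groth.Agent.Lib.NoetherInt.Basic

/-!
# Refined Noether normalization
-/

open MvPolynomial
open private T T_leadingcoeff_isUnit from Mathlib.RingTheory.NoetherNormalization

namespace GrothLib.NoetherInt

universe u

variable (k : Type u) [Field k]

theorem exists_finite_snoc {n : ℕ} (f : MvPolynomial (Fin (n + 1)) k) (hf : f ≠ 0) (hnu : ¬ IsUnit f) :
    ∃ z : Fin n → MvPolynomial (Fin (n + 1)) k,
      (aeval (R := k) (Fin.snoc z f : Fin (n + 1) → MvPolynomial (Fin (n + 1)) k)).IsIntegral := by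
  let e := finSuccEquiv k n
  set Tf := T f with hTf
  set z : Fin n → MvPolynomial (Fin (n + 1)) k :=
    fun i => X i.succ - X 0 ^ ((2 + f.totalDegree) ^ (i.succ : Fin (n + 1)).1) with hz
  refine ⟨z, ?_⟩
  have hTs : ∀ i, Tf.symm (X i) = if i = 0 then X 0 else
      X i + (-1 : k) • X 0 ^ ((2 + f.totalDegree) ^ i.1) := fun i => by
    simp [hTf, T, NoetherNormalization.T1]
  set φ := (aeval (R := k) (Fin.snoc z f : Fin (n + 1) → MvPolynomial (Fin (n + 1)) k)) with hφ
  have hE : ∀ p : Polynomial (MvPolynomial (Fin n) k),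
      Polynomial.eval₂ (aeval z).toRingHom (X 0) p = Tf.symm (e.symm p) := by
    intro p
    induction p using Polynomial.induction_on' with
    | add p q hp hq => rw [Polynomial.eval₂_add, hp, hq, map_add, map_add]
    | monomial m a =>
      have h1 : Tf.symm (e.symm Polynomial.X) = X 0 := by
        rw [show e.symm Polynomial.X = X 0 from e.injective (by simp [e, finSuccEquiv_X_zero]), hTs, if_pos rfl]
      have h2 : (Tf.symm.toAlgHom.comp e.symm.toAlgHom).comp
          (IsScalarTower.toAlgHom k (MvPolynomial (Fin n) k) (Polynomial (MvPolynomial (Fin n) k))) = aeval z := by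
        refine MvPolynomial.algHom_ext fun i => ?_
        show Tf.symm (e.symm (Polynomial.C (X i))) = aeval z (X i)
        rw [aeval_X, show e.symm (Polynomial.C (X i)) = X i.succ from e.injective (by simp [e, finSuccEquiv_X_succ]),
          hTs, if_neg (Fin.succ_ne_zero i), neg_smul, one_smul, ← sub_eq_add_neg]
      rw [Polynomial.eval₂_monomial, ← Polynomial.C_mul_X_pow_eq_monomial, map_mul, map_mul, map_pow, map_pow, h1, ← h2]
      rfl
  set p := e (Tf f) with hp
  have hpf : Tf.symm (e.symm p) = f := by rw [hp, AlgEquiv.symm_apply_apply, AlgEquiv.symm_apply_apply]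
  have u : IsUnit p.leadingCoeff := T_leadingcoeff_isUnit f hf
  have hdeg : 0 < p.natDegree := by
    by_contra h0
    have hC := Polynomial.eq_C_of_natDegree_eq_zero (Nat.eq_zero_of_not_pos h0)
    refine hnu ?_
    rw [← hpf, hC]
    refine ((Polynomial.isUnit_C.2 ?_).map e.symm).map Tf.symm
    rwa [Polynomial.leadingCoeff, Nat.eq_zero_of_not_pos h0] at u
  let ρ : MvPolynomial (Fin n) k →+* MvPolynomial (Fin (n + 1)) k := (rename Fin.castSucc).toRingHom
  have hρ : φ.toRingHom.comp ρ = (aeval z).toRingHom := by
    refine RingHom.ext fun q => ?_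
    show φ (rename Fin.castSucc q) = aeval z q
    rw [hφ, aeval_rename]
    congr 1
    ext i
    simp
  have hx : φ.toRingHom.IsIntegralElem (X 0) := by
    set q := p.map ρ - Polynomial.C (X (Fin.last n)) with hq
    have hu : IsUnit (ρ p.leadingCoeff) := u.map ρ
    have hnd : (p.map ρ).natDegree = p.natDegree :=
      Polynomial.natDegree_map_of_leadingCoeff_ne_zero _ hu.ne_zero
    have hqd : q.natDegree = p.natDegree := by rw [hq, Polynomial.natDegree_sub_C, hnd]
    have hql : IsUnit q.leadingCoeff := by
      rw [Polynomial.leadingCoeff, hqd, hq, Polynomial.coeff_sub, Polynomial.coeff_map,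
        Polynomial.coeff_C, if_neg hdeg.ne', sub_zero]
      exact hu
    refine ⟨hql.unit⁻¹.val • q, Polynomial.monic_of_isUnit_leadingCoeff_inv_smul hql, ?_⟩
    have h0 : Polynomial.eval₂ φ.toRingHom (X 0) q = 0 := by
      rw [hq, Polynomial.eval₂_sub, Polynomial.eval₂_C, Polynomial.eval₂_map, hρ, hE, hpf]
      simp [φ]
    rw [Polynomial.smul_eq_C_mul, Polynomial.eval₂_mul, h0, mul_zero]
  intro w
  induction w using MvPolynomial.induction_on with
  | C a =>
    have : (C a : MvPolynomial (Fin (n + 1)) k) = φ.toRingHom (C a) := by simp [φ]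
    rw [this]
    exact φ.toRingHom.isIntegralElem_map
  | add p q hp hq => exact hp.add _ hq
  | mul_X p i hp =>
    refine hp.mul _ ?_
    cases i using Fin.cases with
    | zero => exact hx
    | succ i =>
      have : (X i.succ : MvPolynomial (Fin (n + 1)) k) = φ.toRingHom (X i.castSucc) +
          X 0 ^ ((2 + f.totalDegree) ^ (i.succ : Fin (n + 1)).1) := by
        simp [φ, hz]
      rw [this]
      refine (φ.toRingHom.isIntegralElem_map).add _ ?_
      generalize (2 + f.totalDegree) ^ (i.succ : Fin (n + 1)).1 = m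
      induction m with
      | zero => rw [pow_zero]; exact φ.toRingHom.isIntegralElem_one
      | succ m ihm => rw [pow_succ]; exact ihm.mul _ hx

/-- span of the variables of index at least `r` -/
theorem exists_integral_comap_eq (n : ℕ) (q : Ideal (MvPolynomial (Fin n) k)) [hq : q.IsPrime] :
    ∃ r ≤ n, ∃ φ : MvPolynomial (Fin n) k →ₐ[k] MvPolynomial (Fin n) k, φ.IsIntegral ∧
      q.comap φ = Ideal.span (Set.range fun i : {i : Fin n // r ≤ (i : ℕ)} => X (i : Fin n)) := by
  have triv : ∀ (n : ℕ) (q : Ideal (MvPolynomial (Fin n) k)), q = ⊥ →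
      ∃ r ≤ n, ∃ φ : MvPolynomial (Fin n) k →ₐ[k] MvPolynomial (Fin n) k, φ.IsIntegral ∧
      q.comap φ = Ideal.span (Set.range fun i : {i : Fin n // r ≤ (i : ℕ)} => X (i : Fin n)) := by
    intro n q h
    refine ⟨n, le_rfl, AlgHom.id k _, RingHom.isIntegral_of_surjective _ fun x => ⟨x, rfl⟩, ?_⟩
    haveI : IsEmpty {i : Fin n // n ≤ (i : ℕ)} := ⟨fun i => absurd i.2 (not_le.2 i.1.2)⟩
    rw [Set.range_eq_empty, Ideal.span_empty, h]
    exact eq_bot_iff.2 fun x hx => hx
  induction n with
  | zero =>
    refine triv 0 q (eq_bot_iff.2 fun p hp => ?_)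
    rw [Submodule.mem_bot]
    by_contra hne
    obtain ⟨c, rfl⟩ := C_surjective (Fin 0) p
    exact hq.ne_top (Ideal.eq_top_of_isUnit_mem _ hp (IsUnit.map C (isUnit_iff_ne_zero.2 fun h => hne (by rw [h, map_zero]))))
  | succ n ih =>
    by_cases h : q = ⊥
    · exact triv (n + 1) q h
    obtain ⟨f, hfq, hf⟩ := Submodule.exists_mem_ne_zero_of_ne_bot h
    obtain ⟨z, hzi⟩ := exists_finite_snoc k f hf fun hu => hq.ne_top (Ideal.eq_top_of_isUnit_mem _ hfq hu)
    set q' := q.comap (aeval z : MvPolynomial (Fin n) k →ₐ[k] _) with hq'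
    obtain ⟨r, hr, φ', hφ', hcomap⟩ := ih q'
    let φ'' : MvPolynomial (Fin (n + 1)) k →ₐ[k] MvPolynomial (Fin (n + 1)) k :=
      aeval (Fin.snoc (fun i => rename Fin.castSucc (φ' (X i))) (X (Fin.last n)))
    let ρ : MvPolynomial (Fin n) k →ₐ[k] MvPolynomial (Fin (n + 1)) k := rename Fin.castSucc
    set ψ := (aeval (R := k) (Fin.snoc z f : Fin (n + 1) → MvPolynomial (Fin (n + 1)) k)) with hψ
    have hφρ : φ''.comp ρ = ρ.comp φ' := MvPolynomial.algHom_ext fun i => by simp [φ'', ρ]
    have hψρ : ψ.comp ρ = aeval z := MvPolynomial.algHom_ext fun i => by simp [ψ, ρ]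
    refine ⟨r, hr.trans (Nat.le_succ n), ψ.comp φ'', ?_, ?_⟩
    · refine RingHom.IsIntegral.trans φ''.toRingHom ψ.toRingHom ?_ hzi
      intro w
      induction w using MvPolynomial.induction_on with
      | C a =>
        have : (C a : MvPolynomial (Fin (n + 1)) k) = φ''.toRingHom (C a) := by simp [φ'']
        rw [this]
        exact φ''.toRingHom.isIntegralElem_map
      | add p q hp hq => exact hp.add _ hq
      | mul_X p i hp =>
        refine hp.mul _ ?_
        cases i using Fin.lastCases with
        | last =>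
          have : (X (Fin.last n) : MvPolynomial (Fin (n + 1)) k) = φ''.toRingHom (X (Fin.last n)) := by simp [φ'']
          rw [this]
          exact φ''.toRingHom.isIntegralElem_map
        | cast j =>
          have h1 := (hφ' (X j)).map ρ.toRingHom
          have : ρ.toRingHom.comp φ'.toRingHom = φ''.toRingHom.comp ρ.toRingHom :=
            RingHom.ext fun x => (DFunLike.congr_fun hφρ x).symm
          have h2 : ρ.toRingHom (X j) = X j.castSucc := rename_X _ _
          rw [h2] at h1
          exact RingHom.IsIntegralElem.of_comp (this ▸ h1)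
    · refine le_antisymm (fun p hp => ?_) ?_
      · set p0 := aeval (R := k) (Fin.snoc (fun i => X i) 0 : Fin (n + 1) → MvPolynomial (Fin n) k) p with hp0
        have hdiff : p - ρ p0 ∈ Ideal.span {(X (Fin.last n) : MvPolynomial (Fin (n + 1)) k)} := by
          rw [← Ideal.Quotient.eq]
          have hh : (Ideal.Quotient.mkₐ k (Ideal.span {(X (Fin.last n) : MvPolynomial (Fin (n + 1)) k)})) =
              ((Ideal.Quotient.mkₐ k _).comp ρ).comp
                (aeval (R := k) (Fin.snoc (fun i => X i) 0 : Fin (n + 1) → MvPolynomial (Fin n) k)) := by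
            refine MvPolynomial.algHom_ext fun i => ?_
            cases i using Fin.lastCases with
            | last => simp [Ideal.Quotient.eq_zero_iff_mem, Ideal.mem_span_singleton_self]
            | cast j => simp [ρ]
          exact DFunLike.congr_fun hh p
        have hlast : Ideal.span {(X (Fin.last n) : MvPolynomial (Fin (n + 1)) k)} ≤ q.comap (ψ.comp φ'') := by
          rw [Ideal.span_le, Set.singleton_subset_iff]
          simp [φ'', ψ, hfq]
        have hp1 : ρ p0 ∈ q.comap (ψ.comp φ'') := by
          have := (q.comap (ψ.comp φ'')).sub_mem hp (hlast hdiff)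
          rwa [sub_sub_cancel] at this
        have hp2 : p0 ∈ q'.comap φ' := by
          show aeval z (φ' p0) ∈ q
          have : ψ (φ'' (ρ p0)) = aeval z (φ' p0) := by
            rw [show φ'' (ρ p0) = ρ (φ' p0) from DFunLike.congr_fun hφρ p0]
            exact DFunLike.congr_fun hψρ _
          rw [← this]
          exact hp1
        rw [hcomap] at hp2
        rw [show p = (p - ρ p0) + ρ p0 from (sub_add_cancel _ _).symm]
        refine add_mem (Ideal.span_le.2 ?_ hdiff) ?_
        · rw [Set.singleton_subset_iff]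
          exact Ideal.subset_span ⟨⟨Fin.last n, by simpa using hr⟩, rfl⟩
        · have hle : Ideal.span (Set.range fun i : {i : Fin n // r ≤ (i : ℕ)} => (X (i : Fin n) : MvPolynomial (Fin n) k)) ≤
              (Ideal.span (Set.range fun i : {i : Fin (n + 1) // r ≤ (i : ℕ)} => (X (i : Fin (n + 1)) : MvPolynomial (Fin (n + 1)) k))).comap ρ := by
            rw [Ideal.span_le]
            rintro _ ⟨i, rfl⟩
            simp only [SetLike.mem_coe, Ideal.mem_comap]
            rw [show ρ (X (i : Fin n)) = X (i : Fin n).castSucc from rename_X _ _]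
            exact Ideal.subset_span ⟨⟨(i : Fin n).castSucc, by simpa using i.2⟩, rfl⟩
          exact hle hp2
      · rw [Ideal.span_le]
        rintro _ ⟨⟨i, hi⟩, rfl⟩
        show ψ (φ'' (X i)) ∈ q
        cases i using Fin.lastCases with
        | last => simp [φ'', ψ, hfq]
        | cast j =>
          have : φ' (X j) ∈ q' := by
            show (X j : MvPolynomial (Fin n) k) ∈ q'.comap φ'
            rw [hcomap]
            exact Ideal.subset_span ⟨⟨j, by simpa using hi⟩, rfl⟩
          have e : ψ (φ'' (X j.castSucc)) = aeval z (φ' (X j)) := by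
            rw [show φ'' (X j.castSucc) = ρ (φ' (X j)) by simp [φ'', ρ]]
            exact DFunLike.congr_fun hψρ _
          rw [e]
          exact this

end GrothLib.NoetherInt
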